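import Cfsg.Agent.CTwoTab.He
import Cfsg.Agent.BpSpor.BFiveAsm
import Cfsg.Agent.BpMon.Cube
import Cfsg.Agent.PreUniq.MonSeven
import Cfsg.Agent.CpAutMSeven.Ranks
import Cfsg.Agent.MSevenT.Closed

-- merged: Cfsg.Agent.BpMon.HeTwoA
section

/-!
# `Good p (C(x) ∩ C(t))` for `C(x)/⟨x⟩ ≅ He`, `t` not conjugate to `z` (helper41)

* `good_a` : `C_He(2A) = 2².L₃(4).2` is `Good p`;
* `small_a` : its normal 2-subgroups have order dividing 8;
* `good_of_small` : `Good p (C(x) ∩ C(t))` if every involution of `C(x)/⟨x⟩` is conjugate to `w0` or is of this kind;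
* `good_he` : the case `He`.
-/

set_option autoImplicit false

namespace Cfsg.Agent.BpMon

open Cfsg Subgroup Cfsg.Agent.PreUniq Cfsg.Agent.PreUniqB Cfsg.Agent.LThreeMB Cfsg.Agent.MonsterU
open Cfsg.Agent.MonsterU.Ch Cfsg.Agent.BpTab
open Cfsg.Agent.MonsterU.Lam2 (L2)
open Cfsg.Spor (Co1)

universe u v

/-- the normal 2-subgroups of `C_F(τ)` have order dividing 8 -/
def Small {F : Type v} [Group F] (τ : F) : Prop :=
  ∀ P : Subgroup F, IsPGroup 2 ↥P → (∀ q ∈ P, q * τ = τ * q) →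
    (∀ c, c * τ = τ * c → ∀ q ∈ P, c * q * c⁻¹ ∈ P) → Nat.card ↥P ∣ 8

section he

open Cfsg.Spor.He Cfsg.Agent.KFacts.He.Lv Cfsg.Agent.KFacts.He.TwoACent Cfsg.Agent.KFacts.He.TwoAPlane

theorem good_L (p : ℕ) [Fact p.Prime] : Good p ↥L := by
  have hfin := Cfsg.Agent.KFacts.He.Hyp.finHe
  have hs : IsSimpleGroup (↥L ⧸ center ↥L) := Cfsg.Agent.KFacts.He.TwoA.isQuasisimple_L.2
  exact (good_of_simple hs).of_central le_rfl

theorem index_L : (L.subgroupOf (centralizer ({gn .a} : Set Cfsg.Spor.He))).index ∣ 2 :=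
  relIndex_dvd_two fun c hc d hd hcN hdN => by
    rcases two (mem_centralizer_singleton_iff.1 hc) (mem_centralizer_singleton_iff.1 hd) with h | h | h
    · exact absurd h hcN
    · exact absurd h hdN
    · exact h

/-- **`2².L₃(4).2` is good.** -/
theorem good_a (p : ℕ) [Fact p.Prime] : Good p ↥(centralizer ({gn .a} : Set Cfsg.Spor.He)) := by
  have hfin := Cfsg.Agent.KFacts.He.Hyp.finHe
  have hN : L ≤ centralizer ({gn .a} : Set Cfsg.Spor.He) := CTwoTab.He.L_le_cent
  have hNn : (L.subgroupOf (centralizer ({gn .a} : Set Cfsg.Spor.He))).Normal := ⟨fun n hn c =>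
    mem_subgroupOf.2 (norm (mem_centralizer_singleton_iff.1 c.2) (mem_subgroupOf.1 hn))⟩
  have h2 : Good p ↥(L.subgroupOf (centralizer ({gn .a} : Set Cfsg.Spor.He))) :=
    (good_L p).congr (subgroupOfEquivOfLe hN).symm
  refine Good.of_solvable_quotient h2 ?_
  have : Fact (Nat.Prime 2) := ⟨Nat.prime_two⟩
  have h4 : IsPGroup 2 (↥(centralizer ({gn .a} : Set Cfsg.Spor.He)) ⧸
      L.subgroupOf (centralizer ({gn .a} : Set Cfsg.Spor.He))) := by
    rcases (Nat.dvd_prime Nat.prime_two).1 index_L with h5 | h5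
    · exact IsPGroup.of_card (n := 0) h5
    · exact IsPGroup.of_card (n := 1) h5
  have := h4.isNilpotent
  infer_instance

theorem small_a : Small (gn .a : Cfsg.Spor.He) := by
  intro P hP hc hn
  have hfin := Cfsg.Agent.KFacts.He.Hyp.finHe
  have : Fact (Nat.Prime 2) := ⟨Nat.prime_two⟩
  have h1 : L.relIndex P ∣ 2 := relIndex_dvd_two fun c hcP d hd hcN hdN => by
    rcases two (hc c hcP) (hc d hd) with h | h | h
    · exact absurd h hcN
    · exact absurd h hdN
    · exact h
  have h2 : L ⊓ P ≤ V := by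
    rcases Cfsg.Agent.KFacts.He.TwoA.normal_cases (N := L ⊓ P) inf_le_left (fun l hl n hn' =>
      ⟨L.mul_mem (L.mul_mem hl hn'.1) (L.inv_mem hl), hn l (L_comm_a hl) n hn'.2⟩) with h | h
    · exact h
    · exfalso
      have h3 : IsPGroup 2 ↥L := by
        have h4 : L ≤ P := by rw [← h]; exact inf_le_right
        exact hP.to_le h4
      obtain ⟨k, hk⟩ := IsPGroup.iff_card.1 h3
      rw [CTwoTab.He.card_L] at hk
      have h5 : (5 : ℕ) ∣ 2 ^ k := by rw [← hk]; norm_num
      have h6 := Nat.Prime.dvd_of_dvd_pow Nat.prime_five h5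
      norm_num at h6
  have h3 : Nat.card ↥(L ⊓ P) ∣ 4 := by
    rw [← card_V]
    exact card_dvd_of_le h2
  have h4 : Nat.card ↥(L ⊓ P) * L.relIndex P = Nat.card ↥P := by
    rw [← Subgroup.card_mul_index (L.subgroupOf P), relIndex]
    congr 1
    exact (Nat.card_congr (subgroupOfEquivOfLe (inf_le_right : L ⊓ P ≤ P)).toEquiv).symm.trans
      (by rw [Subgroup.inf_subgroupOf_right])
  rw [← h4]
  exact mul_dvd_mul h3 h1

end he

variable {p : ℕ} {G : Type u} [Group G] {Q : Subgroup G} {z : G} {eta : G → L2}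
  {pi : Subgroup.centralizer ({z} : Set G) →* Co1}

/-- the image of `z` is not `Small` -/
theorem not_small [Finite G] (h : Chart Q z eta pi) (hp : p.Prime) (hp2 : p ≠ 2)
    {x : Subgroup.centralizer ({z} : Set G)} (hx : orderOf x = p) (hfr : ¬ fr (pi x) ∣ 4)
    (hfr2 : ∃ k, fr (pi x) = 2 ^ k) {F : Type v} [Group F] (e : XX (x : G) ≃* F) : ¬ Small (e (tt x)) := by
  intro hT
  have hF : Finite F := Finite.of_equiv _ e.toEquiv
  have ho : Odd p := hp.odd_of_ne_two hp2
  have hxp : x ^ p = 1 := by rw [← hx, pow_orderOf_eq_one]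
  obtain ⟨ρ, -, -, hk⟩ := MFive.exists_rho h hp ho hxp
  have hcard := MFive.card_PB h ho hxp
  have hle : PB Q (x : G) ≤ centralizer ({tt x} : Set (XX (x : G))) := by
    intro u hu
    obtain ⟨g, hg, hgQ, rfl⟩ := mem_PB.1 hu
    have hxz : z * (x : G) = x * z := (mem_centralizer_singleton_iff.1 x.2).symm
    rw [mem_centralizer_singleton_iff, tt, mk_mul hg hxz (by rw [mul_assoc, hxz, ← mul_assoc, hg, mul_assoc]),
      mk_mul hxz hg (by rw [mul_assoc, hg, ← mul_assoc, hxz, mul_assoc])]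
    exact mk_congr _ _ (h.large.comm_z g hgQ)
  have hP : IsPGroup 2 ↥(PB Q (x : G)) := by
    obtain ⟨k, hk⟩ := hfr2
    rw [hk, ← pow_succ] at hcard
    exact IsPGroup.of_card hcard
  have hn : ∀ c : XX (x : G), c * tt x = tt x * c → ∀ q ∈ PB Q (x : G), c * q * c⁻¹ ∈ PB Q (x : G) := by
    intro c hc q hq
    have h1 : ρ.ker.Normal := inferInstance
    rw [hk] at h1
    have h2 := h1.conj_mem ⟨q, hle hq⟩ (mem_subgroupOf.2 hq) ⟨c, mem_centralizer_singleton_iff.2 hc⟩
    exact mem_subgroupOf.1 h2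
  have h4 := hT ((PB Q (x : G)).map e.toMonoidHom) (hP.map _) (by
      rintro _ ⟨q, hq, rfl⟩
      show e q * e (tt x) = e (tt x) * e q
      rw [← map_mul, ← map_mul, mem_centralizer_singleton_iff.1 (hle hq)]) (by
      rintro c hc _ ⟨q, hq, rfl⟩
      obtain ⟨c, rfl⟩ := e.surjective c
      rw [← map_mul, ← map_mul] at hc
      refine ⟨c * q * c⁻¹, hn c (e.injective hc) q hq, ?_⟩
      show e (c * q * c⁻¹) = e c * e q * (e c)⁻¹
      rw [map_mul, map_mul, map_inv])
  rw [Nat.card_congr (equivMapOfInjective _ _ e.injective).toEquiv.symm, hcard] at h4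
  exact hfr (Nat.dvd_of_mul_dvd_mul_right (by norm_num : 0 < 2) h4)

/-- **`Good` from the two kinds of involutions.** -/
theorem good_of_small [Finite G] (h : Chart Q z eta pi) (hp : p.Prime) (hp2 : p ≠ 2)
    {x : Subgroup.centralizer ({z} : Set G)} (hx : orderOf x = p) (hfr : ¬ fr (pi x) ∣ 4)
    (hfr2 : ∃ k, fr (pi x) = 2 ^ k) {F : Type v} [Group F] (e : XX (x : G) ≃* F) {w0 : F}
    (hcl : ∀ τ : F, orderOf τ = 2 → (Good p ↥(centralizer ({τ} : Set F)) ∧ Small τ) ∨ IsConj τ w0) {t : G}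
    (ht : orderOf t = 2) (hxt : (x : G) * t = t * x) (hnt : ∀ d : G, d * t * d⁻¹ ≠ z) :
    Good p ↥(centralizer ({(x : G)} : Set G) ⊓ centralizer ({t} : Set G)) := by
  have hF : Finite F := Finite.of_equiv _ e.toEquiv
  have ho : Odd p := hp.odd_of_ne_two hp2
  have hxo : orderOf (x : G) = p := by rw [Subgroup.orderOf_coe, hx]
  have hxp : (x : G) ^ p = 1 := by rw [← hxo, pow_orderOf_eq_one]
  have htt : t * t = 1 := by rw [← pow_two, ← ht, pow_orderOf_eq_one]
  have ht1 : t ≠ 1 := by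
    intro h1
    rw [h1, orderOf_one] at ht
    exact absurd ht (by norm_num)
  obtain ⟨m, hm⟩ := ho
  -- an involution commuting with `x` is not in `⟨x⟩`
  have hinv : ∀ s : G, s * s = 1 → s ≠ 1 → ∀ hs : s * (x : G) = x * s, orderOf (mk (x : G) hs) = 2 := by
    intro s hss hs1 hs
    have : Fact (Nat.Prime 2) := ⟨Nat.prime_two⟩
    apply orderOf_eq_prime
    · rw [pow_two, mk_mul hs hs (by rw [hss, one_mul, mul_one])]
      rw [mk_congr _ (by rw [one_mul, mul_one]) hss]
      rfl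
    · intro h1
      obtain ⟨i, hi⟩ := (mk_eq_one hs).1 h1
      apply hs1
      have h2 : s ^ p = 1 := by rw [← hi, ← zpow_natCast, ← zpow_mul, mul_comm, zpow_mul, zpow_natCast, hxp, one_zpow]
      rwa [hm, pow_succ, pow_mul, pow_two, hss, one_pow, one_mul] at h2
  rcases hcl (e (mk (x : G) hxt.symm)) (by rw [MulEquiv.orderOf_eq]; exact hinv t htt ht1 hxt.symm) with h1 | h1
  · refine BpSpor.BFiveHN.good_inf hp hp2 hxo ht hxt (e.toMonoidHom.comp (QuotientGroup.mk' (Zx (x : G))))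
      (e.surjective.comp (QuotientGroup.mk'_surjective _)) (fun c => ?_) h1.1
    show e (QuotientGroup.mk c) = 1 ↔ _
    rw [e.map_eq_one_iff]
    exact mk_eq_one (x := (x : G)) (g := (c : G)) (mem_centralizer_singleton_iff.1 c.2)
  · exfalso
    have hzz : z * z = 1 := h.large.z_sq
    have hzx : z * (x : G) = x * z := (mem_centralizer_singleton_iff.1 x.2).symm
    rcases hcl (e (tt x)) (by rw [MulEquiv.orderOf_eq]; exact hinv z hzz h.large.z_ne hzx) with h2 | h2
    · exact not_small h hp hp2 hx hfr hfr2 e h2.2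
    · obtain ⟨c, hc⟩ := isConj_iff.1 (h1.trans h2.symm)
      obtain ⟨c, rfl⟩ := e.surjective c
      rw [← map_mul, ← map_inv, ← map_mul] at hc
      obtain ⟨g, hg, rfl⟩ := exists_mk c
      have hc2 := e.injective hc
      have h3 : mk (x : G) (conj_comm hg hxt.symm) = mk (x : G) hzx := hc2
      obtain ⟨i, hi⟩ := (mk_eq_mk _ _).1 h3
      -- `g t g⁻¹ x^i = z`
      apply hnt g
      have hcx : Commute (g * t * g⁻¹) ((x : G) ^ i) :=
        (show Commute (g * t * g⁻¹) (x : G) from conj_comm hg hxt.symm).zpow_right i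
      have h4 : (g * t * g⁻¹ * (x : G) ^ i) ^ p = z ^ p := by rw [hi]
      have hpow : ∀ s : G, s * s = 1 → s ^ p = s := fun s hs => by
        rw [hm, pow_succ, pow_mul, pow_two, hs, one_pow, one_mul]
      have h5 : (g * t * g⁻¹) * (g * t * g⁻¹) = 1 := by
        calc (g * t * g⁻¹) * (g * t * g⁻¹) = g * (t * t) * g⁻¹ := by group
          _ = 1 := by rw [htt]; group
      rw [hcx.mul_pow, hpow _ h5, hpow _ hzz, ← zpow_natCast ((x : G) ^ i), ← zpow_mul, mul_comm i, zpow_mul, zpow_natCast,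
        hxp, one_zpow, mul_one] at h4
      exact h4

/-- **`C(x)/⟨x⟩ ≅ He`**, any odd prime `p`. -/
theorem good_he [Finite G] (h : Chart Q z eta pi) (hp : p.Prime) (hp2 : p ≠ 2)
    {x : Subgroup.centralizer ({z} : Set G)} (hx : orderOf x = p) (hfr : ¬ fr (pi x) ∣ 4)
    (hfr2 : ∃ k, fr (pi x) = 2 ^ k) (hHe : Spor.IsoHe (XX (x : G))) {t : G} (ht : orderOf t = 2)
    (hxt : (x : G) * t = t * x) (hnt : ∀ d : G, d * t * d⁻¹ ≠ z) :
    Good p ↥(centralizer ({(x : G)} : Set G) ⊓ centralizer ({t} : Set G)) := by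
  have : Fact p.Prime := ⟨hp⟩
  have hfin := Cfsg.Agent.KFacts.He.Hyp.finHe
  obtain ⟨e⟩ := hHe
  refine good_of_small h hp hp2 hx hfr hfr2 e (w0 := CTwoTab.He.z) (fun τ hτ => ?_) ht hxt hnt
  have h1 : τ * τ = 1 := by rw [← pow_two, ← hτ, pow_orderOf_eq_one]
  have h2 : τ ≠ 1 := by
    intro h3
    rw [h3, orderOf_one] at hτ
    exact absurd hτ (by norm_num)
  rcases CTwoTab.He.classes h1 h2 with h3 | h3
  · exact Or.inr h3.symm
  · left
    obtain ⟨g, hg⟩ := isConj_iff.1 h3
    let f : MulAut Cfsg.Spor.He := MulAut.conj g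
    have hf : f ((Cfsg.Agent.KFacts.He.Lv.gn .a)) = τ := hg
    constructor
    · have e2 : ↥(centralizer ({(Cfsg.Agent.KFacts.He.Lv.gn .a)} : Set Cfsg.Spor.He)) ≃*
          ↥(centralizer ({τ} : Set Cfsg.Spor.He)) := by
        refine (f.subgroupMap _).trans (MulEquiv.subgroupCongr ?_)
        ext c
        rw [mem_map, mem_centralizer_singleton_iff]
        constructor
        · rintro ⟨d, hd, rfl⟩
          rw [mem_centralizer_singleton_iff] at hd
          show f d * τ = τ * f d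
          rw [← hf, ← map_mul, ← map_mul, hd]
        · intro hc
          refine ⟨f.symm c, ?_, f.apply_symm_apply c⟩
          rw [mem_centralizer_singleton_iff]
          apply f.injective
          rw [map_mul, map_mul, f.apply_symm_apply, hf, hc]
      exact (good_a p).congr e2
    · intro P hP hc hn
      have h4 := small_a (P.map f.symm.toMonoidHom) (hP.map _) (by
        rintro _ ⟨q, hq, rfl⟩
        apply f.injective
        show f (f.symm q * _) = f (_ * f.symm q)
        rw [map_mul, map_mul, f.apply_symm_apply, hf, hc q hq]) (by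
        rintro c hcc _ ⟨q, hq, rfl⟩
        refine ⟨f c * q * (f c)⁻¹, hn (f c) (by rw [← hf, ← map_mul, ← map_mul, hcc]) q hq, ?_⟩
        show f.symm (f c * q * (f c)⁻¹) = c * f.symm q * c⁻¹
        rw [map_mul, map_mul, map_inv, f.symm_apply_apply])
      rwa [Nat.card_congr (equivMapOfInjective _ _ f.symm.injective).toEquiv.symm] at h4

end Cfsg.Agent.BpMon

end

-- merged: Cfsg.Agent.BpMon.BSeven
section

/-!
# S1332: the Baby Monster, `p = 7` (helper41)

* `conj_z` : `x` of order 7 of fixed rank 0: every involution of `C(x)` is conjugate to `z`;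
* `bps_of_he` : `BpS 7 B` from `XX x ≅ He` for the elements `x` of order 7 and fixed rank 6 of `C(z)`.
-/

set_option autoImplicit false
set_option maxRecDepth 100000

namespace Cfsg.Agent.BpMon.BSeven

open Cfsg Cfsg.Agent.BpTab Cfsg.Agent.CpAutBFive Cfsg.Agent.MFive
open Cfsg.Agent.LThreeMB (fr Zx XX KChart.Cent KChart.pi KChart.chart)
open Cfsg.Agent.MonsterU Cfsg.Agent.MonsterU.Ch
open Cfsg.Agent.MonsterX
open Cfsg.Agent.MonsterU.Lam2 (L2)
open Cfsg.Spor (Co1)
open Subgroup (centralizer zpowers mem_centralizer_singleton_iff center)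

/-- the elements of order 7 and fixed rank 6 have `C(x)/⟨x⟩ ≅ He` -/
def HeSix : Prop :=
  ∀ x : centralizer ({KDone.K.z} : Set ↥InstData.M.G), orderOf x = 7 →
    fr (KChart.pi MFive.Row.hc x) = 2 ^ 6 → Spor.IsoHe (XX (x : ↥InstData.M.G))

/-- **Fixed rank 0**: every involution of `C(x)` is conjugate to `z`. -/
theorem conj_z {x : centralizer ({KDone.K.z} : Set ↥InstData.M.G)} (hx : orderOf x = 7)
    (hfr : fr (KChart.pi MFive.Row.hc x) = 1) {t : ↥InstData.M.G} (ht : orderOf t = 2)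
    (hxt : (x : ↥InstData.M.G) * t = t * x) : ∃ d, d * KDone.K.z * d⁻¹ = t := by
  have := MFive.Row.finite_model
  have h := KChart.chart KDone.lft MFive.Row.hc
  have htt : t * t = 1 := by rw [← pow_two, ← ht, pow_orderOf_eq_one]
  have ht1 : t ≠ 1 := by
    intro h1
    rw [h1, orderOf_one] at ht
    exact absurd ht (by norm_num)
  obtain ⟨b, -, hb⟩ := conj_of_unique (B := centralizer ({(x : ↥InstData.M.G)} : Set ↥InstData.M.G))
    (z := KDone.K.z) (z' := t) (mem_centralizer_singleton_iff.2 (mem_centralizer_singleton_iff.1 x.2).symm)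
    (mem_centralizer_singleton_iff.2 hxt.symm) h.large.z_sq h.large.z_ne htt ht1 (fun u hu huz huu => by
      by_cases hu1 : u = 1
      · exact Or.inl hu1
      · right
        refine PreUniq.MonSeven.only_inv KDone.lft MFive.Row.hc (x := x)
          (t := ⟨u, mem_centralizer_singleton_iff.2 huz⟩) (by rw [← hx, pow_orderOf_eq_one]) hfr (Subtype.ext huu)
          (fun h1 => hu1 (congrArg Subtype.val h1)) (Subtype.ext (mem_centralizer_singleton_iff.1 hu).symm))
  exact ⟨b, hb⟩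

/-- `x` in `C(z)` -/
theorem good_of_mem (hHe : HeSix) {x : centralizer ({KDone.K.z} : Set ↥InstData.M.G)} (hx : orderOf x = 7)
    {t : ↥InstData.M.G} (ht : orderOf t = 2) (hnt : ∀ d : ↥InstData.M.G, d * t * d⁻¹ ≠ KDone.K.z)
    (hxt : (x : ↥InstData.M.G) * t = t * x) : Good 7 ↥(XT (x : ↥InstData.M.G) t) := by
  have := MFive.Row.finite_model
  have h := KChart.chart KDone.lft MFive.Row.hc
  have hp : Nat.Prime 7 := by norm_num
  rcases CpAutMSeven.Ranks.hranks _ (MFive.orderOf_pi h hp (by decide) hx) with h1 | h1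
  · obtain ⟨d, hd⟩ := conj_z hx h1 ht hxt
    exfalso
    refine hnt d⁻¹ ?_
    rw [← hd]
    group
  · exact good_he h hp (by norm_num) hx (by rw [h1]; norm_num) ⟨6, h1⟩ (hHe x hx h1) ht hxt hnt

/-- **`BpS 7` for the Baby Monster.** -/
theorem bps_of_he (hHe : HeSix) : BpS 7 Spor.BabyMonster := by
  have := MFive.Row.finite_model
  have : Fact (Nat.Prime 7) := ⟨by norm_num⟩
  refine BpSpor.BCover.bps_of (by norm_num) (by norm_num) fun x v hx hv hxv => ?_
  have ht := RowB.orderOf_t hv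
  have hnt := RowB.not_conj hv
  have he : 2 ∣ Nat.card ↥(centralizer ({x} : Set ↥InstData.M.G)) := by
    have h1 : orderOf (⟨v, mem_centralizer_singleton_iff.2 hxv.symm⟩ : ↥(centralizer ({x} : Set ↥InstData.M.G))) = 2 := by
      rw [← Subgroup.orderOf_coe]
      exact ht
    rw [← h1]
    exact orderOf_dvd_natCard _
  obtain ⟨g, hg⟩ := MSevenT.hex7 x hx he
  have h1 : (g⁻¹ * x * g) * KDone.K.z = KDone.K.z * (g⁻¹ * x * g) := by
    calc (g⁻¹ * x * g) * KDone.K.z = g⁻¹ * (x * (g * KDone.K.z * g⁻¹)) * g := by group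
      _ = g⁻¹ * ((g * KDone.K.z * g⁻¹) * x) * g := by rw [hg]
      _ = KDone.K.z * (g⁻¹ * x * g) := by group
  let x' : centralizer ({KDone.K.z} : Set ↥InstData.M.G) := ⟨g⁻¹ * x * g, mem_centralizer_singleton_iff.2 h1⟩
  have h3 : g * (x' : ↥InstData.M.G) * g⁻¹ = x := by
    show g * (g⁻¹ * x * g) * g⁻¹ = x
    group
  have hx' : orderOf x' = 7 := by
    rw [← Subgroup.orderOf_coe, ← hx, ← h3]
    exact (orderOf_injective (MulAut.conj g).toMonoidHom (MulAut.conj g).injective (x' : ↥InstData.M.G)).symm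
  have h4 : (x' : ↥InstData.M.G) * (g⁻¹ * v * g) = (g⁻¹ * v * g) * x' := by
    have h5 := conj_comm' (g := g⁻¹) hxv
    rw [inv_inv] at h5
    exact h5
  have h5 : orderOf (g⁻¹ * v * g) = 2 := by
    rw [← ht]
    have h6 := MulEquiv.orderOf_eq (MulAut.conj g⁻¹) v
    rw [MulAut.conj_apply, inv_inv] at h6
    exact h6
  refine BpSpor.BFiveAsm.good_conj h3 (by group) (good_of_mem hHe hx' h5 ?_ h4)
  intro d hd
  refine hnt (d * g⁻¹) ?_
  rw [← hd]
  group

end Cfsg.Agent.BpMon.BSeven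

end
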