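import Mathlib

/-!
# Odd groups with an involution whose fixed points are central (helper41)

`Setup x t O` : `O` is a subgroup of odd order normalised by the involution `t`, `x` is central in `O`, `C_O(t) ≤ ⟨x⟩`.
Then `t` inverts `O / ⟨x⟩`, which is abelian.
-/

set_option autoImplicit false

namespace Cfsg.Agent.BpMon

open Subgroup

variable {G : Type*} [Group G]

/-- square roots of elements of odd order -/
theorem exists_sqrt {b : G} (hb : Odd (orderOf b)) : ∃ s ∈ zpowers b, s * s = b := by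
  obtain ⟨k, hk⟩ := hb
  refine ⟨b ^ (k + 1), npow_mem_zpowers b _, ?_⟩
  have h1 : b ^ (orderOf b) = 1 := pow_orderOf_eq_one b
  calc b ^ (k + 1) * b ^ (k + 1) = b ^ (2 * k + 1) * b := by
        rw [← pow_add, ← pow_succ]; congr 1; ring
    _ = b := by rw [← hk, h1, one_mul]

theorem sig_mul {t : G} (ht : t * t = 1) (a b : G) : t * (a * b) * t = (t * a * t) * (t * b * t) := by
  calc t * (a * b) * t = t * a * 1 * b * t := by group
    _ = t * a * (t * t) * b * t := by rw [ht]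
    _ = (t * a * t) * (t * b * t) := by group

theorem sig_sig {t : G} (ht : t * t = 1) (a : G) : t * (t * a * t) * t = a := by
  calc t * (t * a * t) * t = (t * t) * a * (t * t) := by group
    _ = a := by rw [ht, one_mul, mul_one]

theorem sig_inv {t : G} (ht : t * t = 1) (a : G) : t * a⁻¹ * t = (t * a * t)⁻¹ := by
  rw [eq_inv_iff_mul_eq_one, ← sig_mul ht, inv_mul_cancel, mul_one, ht]

theorem comm_of_sig {t a : G} (ht : t * t = 1) (h : t * a * t = a) : a * t = t * a := by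
  calc a * t = (t * t) * a * t := by rw [ht, one_mul]
    _ = t * (t * a * t) := by group
    _ = t * a := by rw [h]

theorem sig_of_comm {t a : G} (ht : t * t = 1) (h : a * t = t * a) : t * a * t = a := by
  rw [mul_assoc, h, ← mul_assoc, ht, one_mul]

theorem sig_eq_conj {t a : G} (ht : t * t = 1) : t * a * t = t * a * t⁻¹ := by
  rw [inv_eq_of_mul_eq_one_left ht]

/-- `t` inverts the powers of an inverted element -/
theorem inv_of_mem_zpowers {t b s : G} (ht : t * t = 1) (hb : t * b * t = b⁻¹) (hs : s ∈ zpowers b) :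
    t * s * t = s⁻¹ := by
  obtain ⟨k, rfl⟩ := mem_zpowers_iff.1 hs
  rw [sig_eq_conj ht, ← conj_zpow, ← sig_eq_conj ht, hb, inv_zpow]

/-- the setting -/
structure Setup (x t : G) (O : Subgroup G) : Prop where
  tt : t * t = 1
  xc : ∀ a ∈ O, a * x = x * a
  odd : Odd (Nat.card ↥O)
  tO : ∀ a ∈ O, t * a * t ∈ O
  fix : ∀ a ∈ O, a * t = t * a → a ∈ zpowers x

namespace Setup

variable {x t : G} {O : Subgroup G}

theorem odd_order (h : Setup x t O) {a : G} (ha : a ∈ O) : Odd (orderOf a) := by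
  have h1 : orderOf (⟨a, ha⟩ : ↥O) ∣ Nat.card ↥O := orderOf_dvd_natCard _
  rw [Subgroup.orderOf_mk] at h1
  exact h.odd.of_dvd_nat h1

theorem comm_zpow (h : Setup x t O) {a b : G} (ha : a ∈ O) (hb : b ∈ zpowers x) : a * b = b * a := by
  obtain ⟨k, rfl⟩ := mem_zpowers_iff.1 hb
  exact (Commute.zpow_right (show Commute a x from h.xc a ha) k)

/-- every `a` is a product of an element of `⟨x⟩` and an inverted element -/
theorem exists_inv (h : Setup x t O) {a : G} (ha : a ∈ O) :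
    ∃ s ∈ O, t * s * t = s⁻¹ ∧ a * s ∈ zpowers x := by
  have htt := h.tt
  have hbO : a⁻¹ * (t * a * t) ∈ O := O.mul_mem (O.inv_mem ha) (h.tO a ha)
  have hb : t * (a⁻¹ * (t * a * t)) * t = (a⁻¹ * (t * a * t))⁻¹ := by
    rw [sig_mul htt, sig_sig htt, sig_inv htt]
    simp only [mul_inv_rev, inv_inv]
  obtain ⟨s, hs, hss⟩ := exists_sqrt (h.odd_order hbO)
  have hsO : s ∈ O := (zpowers_le.2 hbO) hs
  have hst : t * s * t = s⁻¹ := inv_of_mem_zpowers htt hb hs
  refine ⟨s, hsO, hst, h.fix (a * s) (O.mul_mem ha hsO) (comm_of_sig htt ?_)⟩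
  rw [sig_mul htt, hst]
  have e : t * a * t = a * (s * s) := by rw [hss]; group
  rw [e]; group

/-- `t` inverts `O / ⟨x⟩` -/
theorem inv_mod (h : Setup x t O) (htx : t * x = x * t) {a : G} (ha : a ∈ O) : (t * a * t) * a ∈ zpowers x := by
  obtain ⟨s, hs, hst, has⟩ := h.exists_inv ha
  have hf := h.comm_zpow ha has
  have hfs := h.comm_zpow hs has
  have htf : t * (a * s) * t = a * s := by
    obtain ⟨k, hk⟩ := mem_zpowers_iff.1 has
    rw [← hk]
    have h1 : Commute t (x ^ k) := (show Commute t x from htx).zpow_right k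
    rw [h1.eq, mul_assoc, h.tt, mul_one]
  -- `a = (a s) s⁻¹`
  have e : a = (a * s) * s⁻¹ := by group
  have e2 : t * a * t = (a * s) * s := by
    conv_lhs => rw [e]
    rw [sig_mul h.tt, htf, sig_inv h.tt, hst, inv_inv]
  rw [e2]
  have e3 : a * s * s * a = (a * s) * (a * s) := by
    have h4 : s * a = a * s := by
      calc s * a = a⁻¹ * (a * s * a) := by group
        _ = a⁻¹ * (a * (a * s)) := by rw [hf]
        _ = a * s := by group
    rw [mul_assoc, h4]
  rw [e3]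
  exact mul_mem has has

/-- `O / ⟨x⟩` is abelian -/
theorem comm_mod (h : Setup x t O) (htx : t * x = x * t) {a b : G} (ha : a ∈ O) (hb : b ∈ O) :
    a * b * a⁻¹ * b⁻¹ ∈ zpowers x := by
  obtain ⟨i, hi⟩ := mem_zpowers_iff.1 (h.inv_mod htx ha)
  obtain ⟨j, hj⟩ := mem_zpowers_iff.1 (h.inv_mod htx hb)
  obtain ⟨k, hk⟩ := mem_zpowers_iff.1 (h.inv_mod htx (O.mul_mem ha hb))
  have ha' : t * a * t = x ^ i * a⁻¹ := by rw [hi]; group
  have hb' : t * b * t = x ^ j * b⁻¹ := by rw [hj]; group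
  have hab : t * (a * b) * t = x ^ k * (a * b)⁻¹ := by rw [hk]; group
  rw [sig_mul h.tt, ha', hb'] at hab
  -- `x^i a⁻¹ x^j b⁻¹ = x^k b⁻¹ a⁻¹`
  have hxa : a⁻¹ * x ^ j = x ^ j * a⁻¹ := h.comm_zpow (O.inv_mem ha) (zpow_mem (mem_zpowers x) j)
  have e1 : x ^ (i + j) * (a⁻¹ * b⁻¹) = x ^ k * (b⁻¹ * a⁻¹) := by
    calc x ^ (i + j) * (a⁻¹ * b⁻¹) = x ^ i * (x ^ j * a⁻¹) * b⁻¹ := by rw [zpow_add]; group
      _ = x ^ i * (a⁻¹ * x ^ j) * b⁻¹ := by rw [hxa]
      _ = x ^ i * a⁻¹ * (x ^ j * b⁻¹) := by group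
      _ = x ^ k * (a * b)⁻¹ := hab
      _ = x ^ k * (b⁻¹ * a⁻¹) := by rw [mul_inv_rev]
  have e2 : x ^ (k - (i + j)) = (a⁻¹ * b⁻¹) * (a * b) := by
    have e3 : x ^ (i + j) * ((a⁻¹ * b⁻¹) * (a * b)) = x ^ k := by
      calc x ^ (i + j) * ((a⁻¹ * b⁻¹) * (a * b)) = (x ^ (i + j) * (a⁻¹ * b⁻¹)) * (a * b) := by group
        _ = x ^ k * (b⁻¹ * a⁻¹) * (a * b) := by rw [e1]
        _ = x ^ k := by group
    rw [sub_eq_add_neg, add_comm k, zpow_add, ← e3, zpow_neg]
    group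
  have e4 : (a⁻¹ * b⁻¹) * (a * b) ∈ zpowers x := e2 ▸ zpow_mem (mem_zpowers x) _
  -- conjugate
  have hc := h.comm_zpow (O.mul_mem hb ha) e4
  have e5 : a * b * a⁻¹ * b⁻¹ = ((a⁻¹ * b⁻¹) * (a * b)) := by
    calc a * b * a⁻¹ * b⁻¹ = (b * a) * ((a⁻¹ * b⁻¹) * (a * b)) * (a⁻¹ * b⁻¹) := by group
      _ = ((a⁻¹ * b⁻¹) * (a * b)) * (b * a) * (a⁻¹ * b⁻¹) := by rw [hc]
      _ = ((a⁻¹ * b⁻¹) * (a * b)) := by group
  rw [e5]
  exact e4

end Setup

end Cfsg.Agent.BpMon
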